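import Groth.Agent.Crv77.TwistSection
import Groth.Agent.FBase64.AssTensor.PullLength
import Groth.Agent.Props58.LocFree.Basis
import Groth.Prelude.Def_Curv2

/-! Iterated twists by invertible modules. -/

set_option autoImplicit false
set_option backward.isDefEq.respectTransparency.types false
universe u

open CategoryTheory CategoryTheory.Limits AlgebraicGeometry TopologicalSpace Opposite

noncomputable section

namespace Groth.Agent.Snapper75

open TensorProduct

variable {X : Scheme.{u}}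

theorem nonempty_stalk_twist (F : X.Modules) [F.IsQuasicoherent] {L : X.Modules} (hL : PicF.IsInvertible L)
    (x : X) : Nonempty ((CohB1.tensorMod F L).presheaf.stalk x ≃ₗ[X.presheaf.stalk x] F.presheaf.stalk x) := by
  have hq : L.IsQuasicoherent := Mero90.isQCoh_of_isInvertible hL
  obtain ⟨U, hxU, ⟨e⟩⟩ := Mero90.isFinLocFreeOfRank_of_isInvertible hL x
  obtain ⟨s, hs⟩ := Props58.LocFree.exists_stalkBasis_of_iso e
  obtain ⟨t⟩ := FBase64.AssTensor.nonempty_stalkTensorEquiv F L x
  let e1 : L.presheaf.stalk x ≃ₗ[X.presheaf.stalk x] X.presheaf.stalk x :=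
    (hs.stalkEquiv x hxU).symm.trans (LinearEquiv.funUnique (Fin 1) _ _)
  exact ⟨t.trans ((TensorProduct.congr (LinearEquiv.refl _ (F.presheaf.stalk x)) e1).trans
    (TensorProduct.rid _ _))⟩

theorem support_twist (F : X.Modules) [F.IsQuasicoherent] {L : X.Modules} (hL : PicF.IsInvertible L) :
    CohB1.support (CohB1.tensorMod F L) = CohB1.support F := by
  ext x
  obtain ⟨e⟩ := nonempty_stalk_twist F hL x
  exact not_congr ⟨fun _ => e.symm.toEquiv.subsingleton, fun _ => e.toEquiv.subsingleton⟩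

/-- Iterated twists respect isomorphisms. -/
def tensorPowsIso {F G : X.Modules} (e : F ≅ G) : ∀ (r : ℕ) (L : Fin r → X.Modules) (n : Fin r → ℕ),
    Curv2.tensorPows F r L n ≅ Curv2.tensorPows G r L n
  | 0, _, _ => e
  | r + 1, L, n => EGA73.tensIso (tensorPowsIso e r _ _) (Iso.refl _)

/-- An additional factor can be moved outside an iterated twist. -/
def tensorPowsComm (F M : X.Modules) : ∀ (r : ℕ) (L : Fin r → X.Modules) (n : Fin r → ℕ),
    Curv2.tensorPows (CohB1.tensorMod F M) r L n ≅ CohB1.tensorMod (Curv2.tensorPows F r L n) M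
  | 0, _, _ => Iso.refl _
  | r + 1, L, n =>
    EGA73.tensIso (tensorPowsComm F M r _ _) (Iso.refl _) ≪≫ EGA73.tensAssoc' _ _ _ ≪≫
      EGA73.tensIso (Iso.refl _) (EGA73.tensComm _ _) ≪≫ (EGA73.tensAssoc' _ _ _).symm

theorem tensorPows_succ_eq {r : ℕ} (F : X.Modules) (L : Fin (r + 1) → X.Modules) (m : Fin (r + 1) → ℕ)
    {a : Fin r → ℕ} {b : ℕ} (h1 : a = fun l => m l.castSucc) (h2 : b = m (Fin.last r)) :
    CohB1.tensorMod (Curv2.tensorPows F r (fun l => L l.castSucc) a) (CohB1.tensorPow (L (Fin.last r)) b) =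
      Curv2.tensorPows F (r + 1) L m := by
  subst h1 h2
  rfl

/-- Raising one exponent. -/
theorem nonempty_tensorPows_succ : ∀ (r : ℕ) (F : X.Modules) (L : Fin r → X.Modules) (i : Fin r) (n : Fin r → ℕ),
    Nonempty (Curv2.tensorPows (CohB1.tensorMod F (L i)) r L n ≅ Curv2.tensorPows F r L (n + Pi.single i 1))
  | 0, _, _, i, _ => i.elim0
  | r + 1, F, L, i, n => by
    induction i using Fin.lastCases with
    | last =>
      have h1 : (fun j : Fin r => (n + Pi.single (Fin.last r) 1 : Fin (r + 1) → ℕ) j.castSucc) =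
          fun j => n j.castSucc := by
        funext j; simp
      exact ⟨EGA73.tensIso (tensorPowsComm F (L (Fin.last r)) r _ _) (Iso.refl _) ≪≫
        EGA73.tensAssoc' _ _ _ ≪≫ EGA73.tensIso (Iso.refl _) (EGA73.tensComm _ _) ≪≫
        eqToIso (tensorPows_succ_eq F L _ (b := n (Fin.last r) + 1) h1.symm (by simp))⟩
    | cast j =>
      obtain ⟨e⟩ := nonempty_tensorPows_succ r F (fun l => L l.castSucc) j (fun l => n l.castSucc)
      have h1 : (fun l : Fin r => (n + Pi.single j.castSucc 1 : Fin (r + 1) → ℕ) l.castSucc) =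
          (fun l => n l.castSucc) + Pi.single j 1 := by
        funext l
        by_cases h : l = j
        · subst h; simp
        · simp [Pi.single_eq_of_ne h, Pi.single_eq_of_ne (fun e => h (Fin.castSucc_injective r e))]
      exact ⟨EGA73.tensIso e (Iso.refl _) ≪≫
        eqToIso (tensorPows_succ_eq F L _ h1.symm (by simp))⟩

theorem isCoh_tensorPows {F : X.Modules} (hF : Coh.IsCoh F) : ∀ (r : ℕ) (L : Fin r → X.Modules),
    (∀ i, PicF.IsInvertible (L i)) → ∀ n, Coh.IsCoh (Curv2.tensorPows F r L n)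
  | 0, _, _, _ => hF
  | r + 1, L, hL, n => Amp73.isCoh_tensorMod (isCoh_tensorPows hF r _ (fun i => hL _) _)
      (Amp73.isCoh_of_isInvertible (EGA73.isInvertible_tensorPow (hL _) _))

theorem shortExact_tensorPows {S : ShortComplex X.Modules} (hS : S.ShortExact) :
    ∀ (r : ℕ) (L : Fin r → X.Modules), (∀ i, PicF.IsInvertible (L i)) → ∀ n,
    ∃ T : ShortComplex X.Modules, T.ShortExact ∧ T.X₁ = Curv2.tensorPows S.X₁ r L n ∧
      T.X₂ = Curv2.tensorPows S.X₂ r L n ∧ T.X₃ = Curv2.tensorPows S.X₃ r L n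
  | 0, _, _, _ => ⟨S, hS, rfl, rfl, rfl⟩
  | r + 1, L, hL, n => by
    obtain ⟨T, hT, e₁, e₂, e₃⟩ := shortExact_tensorPows hS r (fun i => L i.castSucc) (fun i => hL _)
      (fun i => n i.castSucc)
    obtain ⟨T', hT', f₁, f₂, f₃⟩ := Crv77.shortExact_twist (Mero90.isFinLocFreeOfRank_of_isInvertible
      (EGA73.isInvertible_tensorPow (hL (Fin.last r)) (n (Fin.last r)))) hT
    exact ⟨T', hT', f₁.trans (by rw [e₁]; rfl), f₂.trans (by rw [e₂]; rfl), f₃.trans (by rw [e₃]; rfl)⟩

end Groth.Agent.Snapper75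

end
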