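import Groth.Agent.Snapper75.Poly
import Groth.Agent.Snapper75.Twist
import Groth.Agent.QC70.DevissageAux
import Groth.Agent.CohSerre72.Basic
import Groth.Agent.LC17.ConnDim
import Groth.Agent.Crv77.Bound

/-! Euler characteristics of twists of coherent modules are polynomial (Snapper). -/

set_option autoImplicit false
set_option backward.isDefEq.respectTransparency.types false
universe u

open CategoryTheory CategoryTheory.Limits AlgebraicGeometry TopologicalSpace Opposite

noncomputable section

namespace Groth.Agent.Snapper75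

variable (k : Type u) [Field k] {X : Scheme.{u}} [X.Over (Spec (CommRingCat.of k))]
  [IsProper (X ↘ (Spec (CommRingCat.of k)))]

/-- The Euler characteristics of the iterated twists. -/
def chi {r : ℕ} (L : Fin r → X.Modules) (F : X.Modules) : (Fin r → ℕ) → ℚ :=
  fun n => (Curv2.euler k X (Curv2.tensorPows F r L n) : ℚ)

theorem euler_add {S : ShortComplex X.Modules} (hS : S.ShortExact)
    (h₁ : Coh.IsCoh S.X₁) (h₂ : Coh.IsCoh S.X₂) (h₃ : Coh.IsCoh S.X₃) :
    Curv2.euler k X S.X₂ = Curv2.euler k X S.X₁ + Curv2.euler k X S.X₃ := by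
  have : CompactSpace X := QuasiCompact.compactSpace_of_compactSpace (X ↘ (Spec (CommRingCat.of k)))
  have : QuasiSeparatedSpace X := quasiSeparatedSpace_of_quasiSeparated (X ↘ (Spec (CommRingCat.of k)))
  obtain ⟨d, hd⟩ := Crv77.exists_bound_HH (X := X)
  have hb : ∀ M : X.Modules, Coh.IsCoh M → Crv77.FinBdd k M d := fun M hM =>
    ⟨fun n => Serre71.finite_hh_of_isProper k M hM n, fun n hn => hd M hM.1 n hn⟩
  exact Crv77.euler_add hS (hb _ h₁) (hb _ h₂) (hb _ h₃)

theorem euler_eq_zero_of_isZero {M : X.Modules} (hM : IsZero M) : Curv2.euler k X M = 0 := by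
  have hc : Coh.IsCoh M := QC70.isCoh_of_isZero hM
  have hS : (ShortComplex.mk (0 : M ⟶ M) (𝟙 M) (by simp)).ShortExact :=
    ShortComplex.Splitting.shortExact
      { r := 0
        s := 𝟙 M
        f_r := hM.eq_of_src _ _
        s_g := by simp
        id := by simp }
  have := euler_add k hS hc hc hc
  dsimp only at this
  omega

theorem euler_coproduct {F : X.Modules} (hF : Coh.IsCoh F) (r : ℕ) :
    Curv2.euler k X (⨁ fun _ : Fin r => F) = r * Curv2.euler k X F := by
  induction r with
  | zero =>
    rw [euler_eq_zero_of_isZero k]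
    · simp
    · rw [IsZero.iff_id_eq_zero]
      exact biproduct.hom_ext _ _ fun i => i.elim0
  | succ r ih =>
    have h := euler_add k (QC70.consSC_shortExact fun _ : Fin (r + 1) => F) hF
      (QC70.isCoh_biproduct _ fun _ => hF) (QC70.isCoh_biproduct _ fun _ => hF)
    rw [show (QC70.consSC fun _ : Fin (r + 1) => F).X₂ = ⨁ fun _ : Fin (r + 1) => F from rfl,
      show (QC70.consSC fun _ : Fin (r + 1) => F).X₁ = F from rfl,
      show (QC70.consSC fun _ : Fin (r + 1) => F).X₃ = ⨁ fun _ : Fin r => F from rfl, ih] at h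
    rw [h]
    push_cast
    ring

variable {r : ℕ} (L : Fin r → X.Modules)

theorem chi_congr {F G : X.Modules} (e : F ≅ G) : chi k L F = chi k L G :=
  funext fun n => congrArg (fun z : ℤ => (z : ℚ)) (Crv77.euler_congr (tensorPowsIso e r L n))

variable {L} (hL : ∀ i, PicF.IsInvertible (L i))
include hL

theorem chi_add {S : ShortComplex X.Modules} (hS : S.ShortExact)
    (h₁ : Coh.IsCoh S.X₁) (h₂ : Coh.IsCoh S.X₂) (h₃ : Coh.IsCoh S.X₃) :
    chi k L S.X₂ = chi k L S.X₁ + chi k L S.X₃ := by
  funext n
  obtain ⟨T, hT, e₁, e₂, e₃⟩ := shortExact_tensorPows hS r L hL n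
  have h := euler_add k hT (e₁ ▸ isCoh_tensorPows h₁ r L hL n) (e₂ ▸ isCoh_tensorPows h₂ r L hL n)
    (e₃ ▸ isCoh_tensorPows h₃ r L hL n)
  rw [e₁, e₂, e₃] at h
  show (_ : ℚ) = _ + _
  simp only [chi, h]
  push_cast
  ring

theorem chi_eq_zero_of_isZero {M : X.Modules} (hM : IsZero M) : chi k L M = 0 := by
  have hc : Coh.IsCoh M := QC70.isCoh_of_isZero hM
  have hS : (ShortComplex.mk (0 : M ⟶ M) (𝟙 M) (by simp)).ShortExact :=
    ShortComplex.Splitting.shortExact
      { r := 0
        s := 𝟙 M
        f_r := hM.eq_of_src _ _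
        s_g := by simp
        id := by simp }
  have := chi_add k hL hS hc hc hc
  dsimp only at this
  simpa using this

theorem chi_coproduct {F : X.Modules} (hF : Coh.IsCoh F) : ∀ m : ℕ,
    chi k L (⨁ fun _ : Fin m => F) = (m : ℚ) • chi k L F
  | 0 => by
    rw [chi_eq_zero_of_isZero k hL]
    · simp
    · rw [IsZero.iff_id_eq_zero]
      exact biproduct.hom_ext _ _ fun i => i.elim0
  | m + 1 => by
    have h := chi_add k hL (QC70.consSC_shortExact fun _ : Fin (m + 1) => F) hF
      (QC70.isCoh_biproduct _ fun _ => hF) (QC70.isCoh_biproduct _ fun _ => hF)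
    refine h.trans ?_
    show chi k L F + chi k L (⨁ fun _ : Fin m => F) = _
    rw [chi_coproduct hF m]
    push_cast
    rw [add_smul, one_smul, add_comm]

theorem chi_shift (F : X.Modules) (i : Fin r) (n : Fin r → ℕ) :
    chi k L (CohB1.tensorMod F (L i)) n = chi k L F (n + Pi.single i 1) := by
  obtain ⟨e⟩ := nonempty_tensorPows_succ r F L i n
  exact congrArg (fun z : ℤ => (z : ℚ)) (Crv77.euler_congr e)

omit hL in
theorem le_of_lt_succ {a : WithBot ℕ∞} {d : ℕ} (h : a < ((d + 1 : ℕ) : WithBot ℕ∞)) :
    a ≤ (d : WithBot ℕ∞) := by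
  cases a with
  | bot => exact bot_le
  | coe b =>
    obtain ⟨c, rfl⟩ : ∃ c : ℕ, b = c := by
      cases b with
      | top => exact absurd (WithBot.coe_lt_coe.1 h) (by simp)
      | coe c => exact ⟨c, rfl⟩
    have : (c : ℕ∞) < ((d + 1 : ℕ) : ℕ∞) := WithBot.coe_lt_coe.1 h
    exact WithBot.coe_le_coe.2 (Nat.cast_le.2 (Nat.lt_succ_iff.1 (Nat.cast_lt.1 this)))

omit hL in
/-- A closed set inside the closure of a point but missing the point has smaller dimension. -/
theorem dim_lt_of_notMem [NoetherianSpace X] {y : X} {Z : Set X} (hZ : IsClosed Z)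
    (hsub : Z ⊆ closure {y}) (hy : y ∉ Z) {d : ℕ}
    (hd : topologicalKrullDim (closure ({y} : Set X)) < ((d + 1 : ℕ) : WithBot ℕ∞)) :
    topologicalKrullDim Z < (d : WithBot ℕ∞) :=
  lt_of_lt_of_le (LC17.dim_lt_of_ssubset isIrreducible_singleton.closure isClosed_closure hZ
    (hsub.ssubset_of_ne fun h => hy (h.symm ▸ subset_closure rfl))
    (lt_of_lt_of_le hd le_top)) (le_of_lt_succ hd)

/-- Snapper: the degree is bounded by the dimension of the support. -/
theorem chi_mem_polySub : ∀ (d : ℕ) (F : X.Modules), Coh.IsCoh F →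
    topologicalKrullDim (CohB1.support F) < (d : WithBot ℕ∞) → chi k L F ∈ polySub r d
  | 0, F, hF, hd => by
    have hempty : CohB1.support F = ∅ := by
      by_contra hne
      obtain ⟨x, hx⟩ := Set.nonempty_iff_ne_empty.2 hne
      haveI := hF.2
      have hcl := QC70.isClosed_support F
      have : Nonempty (IrreducibleCloseds (CohB1.support F)) :=
        ⟨⟨closure {⟨x, hx⟩}, isIrreducible_singleton.closure, isClosed_closure⟩⟩
      exact absurd hd (not_lt.2 (Order.krullDim_nonneg_iff.2 this))
    rw [chi_eq_zero_of_isZero k hL (QC70.isZero_of_support_eq_empty hempty)]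
    exact Submodule.zero_mem _
  | d + 1, F, hF, hd => by
    have := Crv77.isNoetherian_of_proper k X
    have IHd := chi_mem_polySub d
    haveI := hF.1
    haveI := hF.2
    refine QC70.devissage (fun M => Coh.IsCoh M → chi k L M ∈ polySub r (d + 1))
      (fun M N ⟨e⟩ h hN => chi_congr k L e ▸ h (QC70.isCoh_of_iso e.symm hN))
      (fun M hM _ => chi_eq_zero_of_isZero k hL hM ▸ Submodule.zero_mem _)
      (fun S hS h₁ h₂ h₃ p₁ p₃ _ => chi_add k hL hS h₁ h₂ h₃ ▸ Submodule.add_mem _ (p₁ h₁) (p₃ h₃))
      (fun G m hG hm hP _ => ?_) (CohB1.support F) (QC70.isClosed_support F) (fun y hy IH => ?_)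
      F hF subset_rfl hF
    · have hc := QC70.isCoh_of_iso (biproduct.isoCoproduct fun _ : Fin m => G)
        (QC70.isCoh_biproduct _ fun _ => hG)
      have h := hP hc
      rw [← chi_congr k L (biproduct.isoCoproduct fun _ : Fin m => G), chi_coproduct k hL hG] at h
      have hm' : (m : ℚ) ≠ 0 := Nat.cast_ne_zero.2 (by omega)
      exact (Submodule.smul_mem_iff _ hm').1 h
    · let Y : Closeds X := ⟨closure {y}, isClosed_closure⟩
      let I := Scheme.IdealSheafData.vanishingIdeal Y
      have hI : (I.support : Set X) = closure {y} := Scheme.IdealSheafData.coe_support_vanishingIdeal Y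
      have hO : Coh.IsCoh (Coh.structureModule X) := QC70.isCoh_unit
      haveI := hO.1
      let G := (QC70.quotSC I (Coh.structureModule X)).X₃
      have hG : Coh.IsCoh G := QC70.isCoh_quot I hO
      haveI := hG.1
      have hGy : y ∈ CohB1.support G := CohSerre72.mem_support_quot I hO (hI.ge (subset_closure rfl))
        (not_subsingleton_iff_nontrivial.2 (QC70.nontrivial_stalk_unit y))
      have hGsupp : CohB1.support G ⊆ closure {y} := (QC70.support_quot_subset_right I _).trans hI.le
      have hdy : topologicalKrullDim (closure ({y} : Set X)) < ((d + 1 : ℕ) : WithBot ℕ∞) :=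
        lt_of_le_of_lt (LC17.dim_mono ((QC70.isClosed_support F).closure_subset_iff.2
          (Set.singleton_subset_iff.2 hy))) hd
      have small : ∀ M : X.Modules, Coh.IsCoh M → CohB1.support M ⊆ closure {y} → y ∉ CohB1.support M →
          chi k L M ∈ polySub r d := fun M hM hs hyM =>
        haveI := hM.2
        IHd M hM (dim_lt_of_notMem (QC70.isClosed_support M) hs hyM hdy)
      have hGP : chi k L G ∈ polySub r (d + 1) := by
        refine mem_polySub_of_diff fun i => ?_
        let F' := CohB1.tensorMod G (L i)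
        have hF' : Coh.IsCoh F' := Amp73.isCoh_tensorMod hG (Amp73.isCoh_of_isInvertible (hL i))
        haveI := hF'.1
        obtain ⟨e⟩ := nonempty_stalk_twist G (hL i) y
        obtain ⟨J, ψ, hyJ, hψm, hψb⟩ := QC70.exists_mono_iso_at hG hF' y e.symm
        let S := ShortComplex.mk ψ (cokernel.π ψ) (cokernel.condition ψ)
        have hS : S.ShortExact := ShortComplex.ShortExact.mk'
          (ShortComplex.exact_of_g_is_cokernel _ (cokernelIsCokernel _)) hψm
          (inferInstanceAs (Epi (cokernel.π ψ)))
        have hJG := QC70.isCoh_idealMul J hG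
        have hC : Coh.IsCoh (cokernel ψ) := QC70.isCoh_cokernel ψ hJG.1 hF'
        have h1 := chi_add k hL hS hJG hF' hC
        have h2 := chi_add k hL (QC70.quotSC_shortExact J G) hJG hG (QC70.isCoh_quot J hG)
        change chi k L F' = chi k L ((Dual3.idealMul J).obj G) + chi k L (cokernel ψ) at h1
        change chi k L G = chi k L ((Dual3.idealMul J).obj G) + chi k L (QC70.quotSC J G).X₃ at h2
        have heq : (fun n => chi k L G (n + Pi.single i 1) - chi k L G n) =
            chi k L (cokernel ψ) - chi k L (QC70.quotSC J G).X₃ := by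
          funext n
          rw [← chi_shift k hL G i n, show chi k L (CohB1.tensorMod G (L i)) = chi k L F' from rfl, h1, h2]
          simp only [Pi.add_apply, Pi.sub_apply]
          ring
        rw [heq]
        refine Submodule.sub_mem _ (small _ hC ?_ ?_) (small _ (QC70.isCoh_quot J hG) ?_ ?_)
        · exact (QC70.mem_support_of_epi (cokernel.π ψ)).trans ((support_twist G (hL i)).le.trans hGsupp)
        · exact QC70.notMem_support_iff.2 (QC70.subsingleton_stalk_cokernel ψ y hψb.2)
        · exact (QC70.support_quot_subset_left J G).trans hGsupp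
        · exact QC70.notMem_support_iff.2 (QC70.subsingleton_stalk_cokernel _ y
            (QC70.bijective_stalk_idealMulι J G hyJ).2)
      refine ⟨G, hG, not_subsingleton_iff_nontrivial.1 hGy,
        QC70.stalk_killed (Y := Y) rfl fun W a ha t => QC70.smul_quot_eq_zero I _ W ha t, fun J hJ => ?_⟩
      refine ⟨_, 𝟙 _, inferInstance, QC70.isCoh_idealMul J hG, ?_, fun hc => ?_⟩
      · rw [Category.id_comp]
        exact QC70.bijective_stalk_idealMulι J _ hJ
      · have h2 := chi_add k hL (QC70.quotSC_shortExact J G) hc hG (QC70.isCoh_quot J hG)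
        have hq := IH _ (QC70.isCoh_quot J hG) ((QC70.support_quot_subset_left J G).trans hGsupp)
          (QC70.notMem_support_iff.2 (QC70.subsingleton_stalk_cokernel _ y
            (QC70.bijective_stalk_idealMulι J G hJ).2)) (QC70.isCoh_quot J hG)
        have heq : chi k L ((Dual3.idealMul J).obj G) = chi k L G - chi k L (QC70.quotSC J G).X₃ :=
          eq_sub_of_add_eq h2.symm
        rw [heq]
        exact Submodule.sub_mem _ hGP hq

end Groth.Agent.Snapper75

end
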