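import Groth.Agent.Snapper75.Coeff
import Groth.Agent.Cyc90.PushLen

/-! The top-degree part of a Snapper polynomial. -/

set_option autoImplicit false
set_option backward.isDefEq.respectTransparency.types false
universe u

open CategoryTheory CategoryTheory.Limits AlgebraicGeometry TopologicalSpace Opposite

noncomputable section

namespace Groth.Agent.Snapper75

variable {X : Scheme.{u}}

/-- The structure sheaf of the reduced closure of a point, as a module. -/
abbrev ptMod (y : X) : X.Modules :=
  ClSub.quotMod (Scheme.IdealSheafData.vanishingIdeal (⟨closure ({y} : Set X), isClosed_closure⟩ : Closeds X))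

theorem support_ptMod (y : X) : CohB1.support (ptMod y) ⊆ closure ({y} : Set X) :=
  (support_quotMod_subset _).trans (Scheme.IdealSheafData.coe_support_vanishingIdeal _).le

theorem isIntegral_ptScheme (y : X) : IsIntegral (Scheme.IdealSheafData.vanishingIdeal
    (⟨closure ({y} : Set X), isClosed_closure⟩ : Closeds X)).subscheme := by
  let C : Closeds X := ⟨closure {y}, isClosed_closure⟩
  let I := Scheme.IdealSheafData.vanishingIdeal C
  have hr : Set.range I.subschemeι = closure {y} := SchBasics.range_vanishingIdeal_subschemeι C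
  haveI : IsReduced I.subscheme := SchBasics.isReduced_vanishingIdeal_subscheme C
  have hirr : IsIrreducible (Set.range I.subschemeι) := hr ▸ isIrreducible_singleton.closure
  haveI : IrreducibleSpace I.subscheme := by
    have h := isIrreducible_iff_irreducibleSpace.mp hirr
    let e := I.subschemeι.isClosedEmbedding.isEmbedding.toHomeomorph
    exact (irreducibleSpace_def _).mpr (by
      have := (IrreducibleSpace.isIrreducible_univ (Set.range I.subschemeι)).image e.symm
        e.symm.continuous.continuousOn
      rwa [Set.image_univ, e.symm.surjective.range_eq] at this)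
  exact isIntegral_of_irreducibleSpace_of_isReduced _

theorem length_ptMod (y : X) : Module.length (X.presheaf.stalk y) ((ptMod y).presheaf.stalk y) = 1 := by
  let C : Closeds X := ⟨closure {y}, isClosed_closure⟩
  let I := Scheme.IdealSheafData.vanishingIdeal C
  haveI : IsIntegral I.subscheme := isIntegral_ptScheme y
  have hr : Set.range I.subschemeι = closure {y} := SchBasics.range_vanishingIdeal_subschemeι C
  have h1 : IsGenericPoint (I.subschemeι (genericPoint I.subscheme)) (closure {y}) := by
    have h := (genericPoint_spec I.subscheme).image I.subschemeι.continuous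
    rwa [Set.image_univ, hr, closure_closure] at h
  have hη : I.subschemeι (genericPoint I.subscheme) = y := h1.eq isGenericPoint_closure
  have h : Module.length (X.presheaf.stalk (I.subschemeι (genericPoint I.subscheme)))
      ((ptMod y).presheaf.stalk (I.subschemeι (genericPoint I.subscheme))) = 1 := by
    refine (Cyc90.length_stalk_push I.subschemeι (Coh.structureModule I.subscheme) _).trans ?_
    refine (QC70.unitStalkEquiv (genericPoint I.subscheme)).symm.length_eq.trans ?_
    exact Module.length_eq_one (R := I.subscheme.functionField) (M := I.subscheme.functionField)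
  rwa [hη] at h

/-- Additivity of lengths of stalks. -/
theorem length_stalk_add {S : ShortComplex X.Modules} (hS : S.ShortExact) (x : X) :
    Module.length (X.presheaf.stalk x) (S.X₂.presheaf.stalk x) =
      Module.length (X.presheaf.stalk x) (S.X₁.presheaf.stalk x) +
        Module.length (X.presheaf.stalk x) (S.X₃.presheaf.stalk x) := by
  have := hS.mono_f
  have := hS.epi_g
  exact Module.length_eq_add_of_exact (QC70.stalkLinear S.f x) (QC70.stalkLinear S.g x)
    (QC70.injective_stalkMapM_of_mono S.f x) (QC70.surjective_stalkMapM_of_epi S.g x)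
    (Function.Exact.of_comp_of_mem_range (funext fun e => by
        change QC70.stalkMapM S.g x (QC70.stalkMapM S.f x e) = 0
        obtain ⟨W, hxW, s, rfl⟩ := QC70.germM_exist e
        rw [QC70.stalkMapM_germ, QC70.stalkMapM_germ, ← QC70.germM_zero (M := S.X₃) hxW]
        congr 1
        exact congr($(S.zero).app W s))
      (fun e he => QC70.stalkMapM_exact S hS.exact x e he))

theorem support_X₁_subset {S : ShortComplex X.Modules} (hS : S.ShortExact) :
    CohB1.support S.X₁ ⊆ CohB1.support S.X₂ := fun x hx h => by
  have := hS.mono_f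
  exact hx (QC70.injective_stalkMapM_of_mono S.f x).subsingleton

theorem support_X₃_subset {S : ShortComplex X.Modules} (hS : S.ShortExact) :
    CohB1.support S.X₃ ⊆ CohB1.support S.X₂ := fun x hx => by
  have := hS.epi_g
  exact QC70.mem_support_of_epi S.g hx

theorem support_iso_subset {M N : X.Modules} (e : M ≅ N) : CohB1.support M ⊆ CohB1.support N :=
  fun x hx => QC70.mem_support_of_epi e.inv hx

/-- The length as a rational number. -/
def len (M : X.Modules) (x : X) : ℚ :=
  ((Module.length (X.presheaf.stalk x) (M.presheaf.stalk x)).toNat : ℚ)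

theorem len_eq_zero {M : X.Modules} {x : X} (h : x ∉ CohB1.support M) : len M x = 0 := by
  have := QC70.notMem_support_iff.1 h
  simp [len, Module.length_eq_zero_iff.2 this]

theorem eq_of_dim_eq [NoetherianSpace X] {η x : X} {d : ℕ}
    (hη : topologicalKrullDim (closure ({η} : Set X)) = (d : WithBot ℕ∞))
    (hx : topologicalKrullDim (closure ({x} : Set X)) ≤ (d : WithBot ℕ∞)) (h : x ⤳ η) : x = η := by
  by_contra hne
  have hsub : closure ({η} : Set X) ⊆ closure {x} :=
    isClosed_closure.closure_subset_iff.2 (Set.singleton_subset_iff.2 h.mem_closure)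
  have hx' : x ∉ closure ({η} : Set X) := fun hm =>
    hne ((h.antisymm (specializes_iff_mem_closure.2 hm)).eq)
  have := dim_lt_of_notMem (d := d) isClosed_closure hsub hx'
    (lt_of_le_of_lt hx (by exact_mod_cast Nat.lt_succ_self d))
  exact this.ne hη

/-- The points of a closed set whose closure has top dimension form a finite set. -/
theorem finite_top_points [NoetherianSpace X] {S : Set X} (hS : IsClosed S) {d : ℕ}
    (hd : topologicalKrullDim S ≤ (d : WithBot ℕ∞)) :
    {η ∈ S | topologicalKrullDim (closure ({η} : Set X)) = (d : WithBot ℕ∞)}.Finite := by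
  obtain ⟨T, hTf, hTc, hTi, hTu⟩ := NoetherianSpace.exists_finite_set_isClosed_irreducible hS
  refine Set.Finite.subset (hTf.biUnion (t := fun t : Set X => {η | IsGenericPoint η t}) fun t _ =>
    Set.Subsingleton.finite fun a ha b hb => IsGenericPoint.eq ha hb) fun η hη => ?_
  obtain ⟨hηS, hηd⟩ := hη
  obtain ⟨t, ht, hηt⟩ : ∃ t ∈ T, η ∈ t := Set.mem_sUnion.1 (hTu ▸ hηS)
  obtain ⟨x, hx⟩ := QuasiSober.sober (hTi t ht) (hTc t ht)
  have hxle : topologicalKrullDim (closure ({x} : Set X)) ≤ (d : WithBot ℕ∞) :=
    le_trans (LC17.dim_mono (hx.def.le.trans (hTu ▸ Set.subset_sUnion_of_mem ht))) hd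
  obtain rfl := eq_of_dim_eq hηd hxle (hx.specializes hηt)
  exact Set.mem_biUnion ht hx

variable (k : Type u) [Field k] [X.Over (Spec (CommRingCat.of k))]
  [IsProper (X ↘ (Spec (CommRingCat.of k)))]
variable {r : ℕ} (L : Fin r → X.Modules)

/-- The difference between the twisted Euler characteristics and their expected top part. -/
def defect (T : Finset X) (M : X.Modules) : (Fin r → ℕ) → ℚ :=
  chi k L M - ∑ η ∈ T, len M η • chi k L (ptMod η)

variable {L} (hL : ∀ i, PicF.IsInvertible (L i))

theorem length_ne_top [IsNoetherian X] {M : X.Modules} (hM : Coh.IsCoh M) {S : Set X}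
    (hMS : CohB1.support M ⊆ S) {d : ℕ} (hd : topologicalKrullDim S ≤ (d : WithBot ℕ∞)) {η : X}
    (hη : topologicalKrullDim (closure ({η} : Set X)) = (d : WithBot ℕ∞)) :
    Module.length (X.presheaf.stalk η) (M.presheaf.stalk η) ≠ ⊤ := by
  haveI := hM.2
  refine Cyc90.length_stalk_ne_top M hM η fun x hx h => eq_of_dim_eq hη ?_ h
  exact le_trans (LC17.dim_mono (((QC70.isClosed_support M).closure_subset_iff.2
    (Set.singleton_subset_iff.2 (show x ∈ CohB1.support M from not_subsingleton_iff_nontrivial.2 hx))).trans hMS)) hd

include hL in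
theorem defect_add [IsNoetherian X] {T : Finset X} {S : Set X} {d : ℕ}
    (hd : topologicalKrullDim S ≤ (d : WithBot ℕ∞))
    (hT : ∀ η ∈ T, topologicalKrullDim (closure ({η} : Set X)) = (d : WithBot ℕ∞))
    {E : ShortComplex X.Modules} (hE : E.ShortExact)
    (h₁ : Coh.IsCoh E.X₁) (h₂ : Coh.IsCoh E.X₂) (h₃ : Coh.IsCoh E.X₃) (hS : CohB1.support E.X₂ ⊆ S) :
    defect k L T E.X₂ = defect k L T E.X₁ + defect k L T E.X₃ := by
  have : ∀ η ∈ T, len E.X₂ η = len E.X₁ η + len E.X₃ η := fun η hη => by
    have hne := length_ne_top h₂ hS hd (hT η hη)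
    rw [length_stalk_add hE η] at hne
    simp only [len, length_stalk_add hE η]
    rw [ENat.toNat_add (fun e => hne (by rw [e, top_add])) (fun e => hne (by rw [e, add_top]))]
    push_cast
    rfl
  simp only [defect, chi_add k hL hE h₁ h₂ h₃]
  rw [Finset.sum_congr rfl fun η hη => by rw [this η hη, add_smul], Finset.sum_add_distrib]
  abel

include hL in
theorem defect_eq_zero_of_isZero {T : Finset X} {M : X.Modules} (hM : IsZero M) :
    defect k L T M = 0 := by
  have : ∀ η : X, η ∉ CohB1.support M := fun η => QC70.notMem_support_iff.2 (by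
    refine subsingleton_of_forall_eq 0 fun e => ?_
    obtain ⟨W, hW, s, rfl⟩ := QC70.germM_exist e
    rw [show s = 0 by simpa using congr($(hM.eq_of_src (𝟙 M) 0).app W s), QC70.germM_zero])
  simp [defect, chi_eq_zero_of_isZero k hL hM, len_eq_zero (this _)]

theorem defect_congr {T : Finset X} {M N : X.Modules} (e : M ≅ N) :
    defect k L T M = defect k L T N := by
  have : ∀ η : X, len M η = len N η := fun η => by
    have hb : Function.Bijective (QC70.stalkLinear e.hom η) :=
      ⟨QC70.injective_stalkMapM_of_mono e.hom η, QC70.surjective_stalkMapM_of_epi e.hom η⟩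
    simp only [len, (LinearEquiv.ofBijective _ hb).length_eq]
  simp only [defect, chi_congr k L e, this]

include hL in
theorem defect_biproduct [IsNoetherian X] {T : Finset X} {S : Set X} {d : ℕ}
    (hd : topologicalKrullDim S ≤ (d : WithBot ℕ∞))
    (hT : ∀ η ∈ T, topologicalKrullDim (closure ({η} : Set X)) = (d : WithBot ℕ∞))
    {G : X.Modules} (hG : Coh.IsCoh G) (hGS : CohB1.support G ⊆ S) : ∀ m : ℕ,
    defect k L T (⨁ fun _ : Fin m => G) = (m : ℚ) • defect k L T G
  | 0 => by
    rw [defect_eq_zero_of_isZero k hL]
    · simp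
    · rw [IsZero.iff_id_eq_zero]
      exact biproduct.hom_ext _ _ fun i => i.elim0
  | m + 1 => by
    have h := defect_add k hL hd hT (QC70.consSC_shortExact fun _ : Fin (m + 1) => G) hG
      (QC70.isCoh_biproduct _ fun _ => hG) (QC70.isCoh_biproduct _ fun _ => hG)
      ((QC70.support_biproduct_subset fun _ : Fin (m + 1) => G).trans (Set.iUnion_subset fun _ => hGS))
    refine h.trans ?_
    show defect k L T G + defect k L T (⨁ fun _ : Fin m => G) = _
    rw [defect_biproduct hd hT hG hGS m]
    push_cast
    rw [add_smul, one_smul, add_comm]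

include hL in
/-- The top part of the twisted Euler characteristics. -/
theorem defect_mem_polySub {d : ℕ} {S : Set X} (hSc : IsClosed S)
    (hd : topologicalKrullDim S ≤ (d : WithBot ℕ∞)) {T : Finset X}
    (hT : ∀ η : X, η ∈ T ↔ η ∈ S ∧ topologicalKrullDim (closure ({η} : Set X)) = (d : WithBot ℕ∞))
    {F : X.Modules} (hF : Coh.IsCoh F) (hFS : CohB1.support F ⊆ S) :
    defect k L T F ∈ polySub r d := by
  classical
  have := Crv77.isNoetherian_of_proper k X
  have hT' : ∀ η ∈ T, topologicalKrullDim (closure ({η} : Set X)) = (d : WithBot ℕ∞) :=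
    fun η hη => ((hT η).1 hη).2
  refine QC70.devissage
    (fun M => Coh.IsCoh M → CohB1.support M ⊆ S → defect k L T M ∈ polySub r d)
    (fun M N ⟨e⟩ h hN hNS => defect_congr k e ▸ h (QC70.isCoh_of_iso e.symm hN)
      ((support_iso_subset e).trans hNS))
    (fun M hM _ _ => defect_eq_zero_of_isZero k hL hM ▸ Submodule.zero_mem _)
    (fun E hE h₁ h₂ h₃ p₁ p₃ _ hS => defect_add k hL hd hT' hE h₁ h₂ h₃ hS ▸
      Submodule.add_mem _ (p₁ h₁ ((support_X₁_subset hE).trans hS))
        (p₃ h₃ ((support_X₃_subset hE).trans hS)))
    (fun G m hG hm hP _ hGS => ?_) S hSc (fun y hy IH => ?_) F hF hFS hF hFS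
  · let e := biproduct.isoCoproduct fun _ : Fin m => G
    have hb : CohB1.support (⨁ fun _ : Fin m => G) ⊆ S :=
      (QC70.support_biproduct_subset fun _ : Fin m => G).trans (Set.iUnion_subset fun _ => hGS)
    have h := hP (QC70.isCoh_of_iso e (QC70.isCoh_biproduct _ fun _ => hG))
      ((support_iso_subset e.symm).trans hb)
    rw [← defect_congr k e, defect_biproduct k hL hd hT' hG hGS] at h
    exact (Submodule.smul_mem_iff _ (Nat.cast_ne_zero.2 (by omega) : (m : ℚ) ≠ 0)).1 h
  · have hyS : closure ({y} : Set X) ⊆ S := hSc.closure_subset_iff.2 (Set.singleton_subset_iff.2 hy)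
    have hG : Coh.IsCoh (ptMod y) := Crv77.isCoh_quotMod _
    haveI := hG.1
    haveI := hG.2
    have hGy : y ∈ CohB1.support (ptMod y) := fun hsub => by
      have := length_ptMod y
      rw [Module.length_eq_zero_iff.2 hsub] at this
      exact zero_ne_one this
    have hkill : ∀ a ∈ IsLocalRing.maximalIdeal (X.presheaf.stalk y),
        ∀ m : (ptMod y).presheaf.stalk y, a • m = 0 := by
      haveI : IsSimpleModule (X.presheaf.stalk y) ((ptMod y).presheaf.stalk y) :=
        Module.length_eq_one_iff.1 (length_ptMod y)
      intro a ha m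
      obtain ⟨J, hJ, ⟨e⟩⟩ := isSimpleModule_iff_quot_maximal.1
        (inferInstance : IsSimpleModule (X.presheaf.stalk y) ((ptMod y).presheaf.stalk y))
      refine e.injective ?_
      rw [map_smul, map_zero]
      obtain ⟨c, hc⟩ := Submodule.Quotient.mk_surjective _ (e m)
      rw [← hc, ← Submodule.Quotient.mk_smul, Submodule.Quotient.mk_eq_zero]
      exact Ideal.mul_mem_right _ _ (IsLocalRing.eq_maximalIdeal hJ ▸ ha)
    have hGP : defect k L T (ptMod y) ∈ polySub r d := by
      by_cases hyd : topologicalKrullDim (closure ({y} : Set X)) = (d : WithBot ℕ∞)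
      · have hyT : y ∈ T := (hT y).2 ⟨hy, hyd⟩
        have h1 : len (ptMod y) y = 1 := by simp [len, length_ptMod y]
        rw [defect, Finset.sum_eq_single_of_mem y hyT, h1, one_smul, sub_self]
        · exact Submodule.zero_mem _
        · intro η hη hne
          rw [len_eq_zero, zero_smul]
          intro hmem
          exact hne (eq_of_dim_eq (hT' η hη) hyd.le
            (specializes_iff_mem_closure.2 (support_ptMod y hmem))).symm
      · have hlt : topologicalKrullDim (closure ({y} : Set X)) < (d : WithBot ℕ∞) :=
          lt_of_le_of_ne (le_trans (LC17.dim_mono hyS) hd) hyd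
        rw [defect, Finset.sum_eq_zero, sub_zero]
        · exact chi_mem_polySub k hL d _ hG
            (lt_of_le_of_lt (LC17.dim_mono (support_ptMod y)) hlt)
        · intro η hη
          rw [len_eq_zero, zero_smul]
          intro hmem
          exact lt_irrefl _ ((hT' η hη).symm.le.trans_lt (lt_of_le_of_lt (LC17.dim_mono
            (isClosed_closure.closure_subset_iff.2 (Set.singleton_subset_iff.2 (support_ptMod y hmem)))) hlt))
    refine ⟨ptMod y, hG, not_subsingleton_iff_nontrivial.1 hGy, hkill, fun J hJ => ?_⟩
    refine ⟨_, 𝟙 _, inferInstance, QC70.isCoh_idealMul J hG, ?_, fun hc _ => ?_⟩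
    · rw [Category.id_comp]
      exact QC70.bijective_stalk_idealMulι J _ hJ
    · have hGS := (support_ptMod y).trans hyS
      have h2 := defect_add k hL hd hT' (QC70.quotSC_shortExact J (ptMod y)) hc hG
        (QC70.isCoh_quot J hG) hGS
      have hq := IH _ (QC70.isCoh_quot J hG)
        ((QC70.support_quot_subset_left J _).trans (support_ptMod y))
        (QC70.notMem_support_iff.2 (QC70.subsingleton_stalk_cokernel _ y
          (QC70.bijective_stalk_idealMulι J _ hJ).2)) (QC70.isCoh_quot J hG)
        ((QC70.support_quot_subset_left J _).trans hGS)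
      have heq : defect k L T ((Dual3.idealMul J).obj (ptMod y)) =
          defect k L T (ptMod y) - defect k L T (QC70.quotSC J (ptMod y)).X₃ :=
        eq_sub_of_add_eq h2.symm
      rw [heq]
      exact Submodule.sub_mem _ hGP hq

end Groth.Agent.Snapper75

end
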