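import Groth.Agent.Snapper75.Main
import Groth.Agent.Crv77.Degree
import Mathlib.Algebra.MvPolynomial.Funext

/-! Intersection numbers as coefficients of Snapper polynomials. -/

set_option autoImplicit false
set_option backward.isDefEq.respectTransparency.types false
universe u

open CategoryTheory CategoryTheory.Limits AlgebraicGeometry TopologicalSpace Opposite

noncomputable section

namespace Groth.Agent.Snapper75

variable (k : Type u) [Field k] {X : Scheme.{u}} [X.Over (Spec (CommRingCat.of k))]

theorem eq_of_eval_nat_eq {r : ℕ} {P Q : MvPolynomial (Fin r) ℚ}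
    (h : ∀ n : Fin r → ℕ, MvPolynomial.eval (fun i => (n i : ℚ)) P = MvPolynomial.eval (fun i => (n i : ℚ)) Q) :
    P = Q := by
  refine MvPolynomial.funext_set (fun _ => Set.range fun n : ℕ => (n : ℚ))
    (fun _ => Set.infinite_range_of_injective Nat.cast_injective) fun x hx => ?_
  choose n hn using fun i => hx i (Set.mem_univ i)
  simpa only [funext hn] using h n

/-- The all-ones exponent. -/
abbrev oneExp (r : ℕ) : Fin r →₀ ℕ := Finsupp.equivFunOnFinite.symm fun _ : Fin r => 1

/-- The iterated difference is an integer combination of Euler characteristics. -/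
theorem alt_chi_eq {r : ℕ} (L : Fin r → X.Modules) (F : X.Modules) :
    alt r (chi k L F) = ((∑ S : Finset (Fin r), (-1) ^ (Sᶜ).card *
      Curv2.euler k X (Curv2.tensorPows F r L (ind S)) : ℤ) : ℚ) := by
  push_cast
  rfl

theorem support_quotMod_subset (I : X.IdealSheafData) :
    CohB1.support (ClSub.quotMod I) ⊆ (I.support : Set X) := fun x hx => by
  by_contra h
  exact QC70.notMem_support_iff.2 (Crv77.suppIn_quotMod I x h) hx

variable [IsProper (X ↘ (Spec (CommRingCat.of k)))]

/-- A polynomial computing the twisted Euler characteristics has degree at most the dimension. -/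
theorem degree_lt_of_eval {r : ℕ} {L : Fin r → X.Modules} (hL : ∀ i, PicF.IsInvertible (L i))
    {F : X.Modules} (hF : Coh.IsCoh F) {d : ℕ} (hd : topologicalKrullDim (CohB1.support F) < (d : WithBot ℕ∞))
    {P : MvPolynomial (Fin r) ℚ}
    (hP : ∀ n : Fin r → ℕ, chi k L F n = MvPolynomial.eval (fun i => (n i : ℚ)) P) :
    ∀ m ∈ P.support, (m.sum fun _ e => e) < d := by
  obtain ⟨Q, hQ, hQe⟩ := mem_polySub_iff.1 (chi_mem_polySub k hL d F hF hd)
  obtain rfl : P = Q := eq_of_eval_nat_eq fun n => (hP n).symm.trans (hQe n)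
  exact hQ

/-- The top coefficient as an iterated difference. -/
theorem coeff_eq_alt {r : ℕ} {L : Fin r → X.Modules} (hL : ∀ i, PicF.IsInvertible (L i))
    {F : X.Modules} (hF : Coh.IsCoh F) (hd : topologicalKrullDim (CohB1.support F) ≤ (r : WithBot ℕ∞))
    {P : MvPolynomial (Fin r) ℚ}
    (hP : ∀ n : Fin r → ℕ, chi k L F n = MvPolynomial.eval (fun i => (n i : ℚ)) P) :
    P.coeff (oneExp r) = alt r (chi k L F) :=
  (alt_eq_coeff (fun m hm => Nat.lt_succ_iff.1 (degree_lt_of_eval k hL hF
    (lt_of_le_of_lt hd (by exact_mod_cast Nat.lt_succ_self r)) hP m hm)) hP).symm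

/-- The top coefficient vanishes in smaller dimension. -/
theorem coeff_eq_zero {r : ℕ} {L : Fin r → X.Modules} (hL : ∀ i, PicF.IsInvertible (L i))
    {F : X.Modules} (hF : Coh.IsCoh F) (hd : topologicalKrullDim (CohB1.support F) < (r : WithBot ℕ∞))
    {P : MvPolynomial (Fin r) ℚ}
    (hP : ∀ n : Fin r → ℕ, chi k L F n = MvPolynomial.eval (fun i => (n i : ℚ)) P) :
    P.coeff (oneExp r) = 0 := by
  rw [coeff_eq_alt k hL hF hd.le hP]
  exact alt_eq_zero (chi_mem_polySub k hL r F hF hd)

end Groth.Agent.Snapper75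

end
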