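import Groth.Agent.Snapper75.Main
import Groth.Agent.Curves2.Ample.ClosedPush
import Groth.Agent.Amp73.PullTensor

/-! Iterated twists of direct images along closed immersions. -/

set_option autoImplicit false
set_option backward.isDefEq.respectTransparency.types false
universe u

open CategoryTheory CategoryTheory.Limits AlgebraicGeometry TopologicalSpace Opposite

noncomputable section

namespace Groth.Agent.Snapper75

variable {Z X : Scheme.{u}} (f : Z ⟶ X)

/-- The projection formula for iterated twists. -/
def tensorPowsPush (M : Z.Modules) : ∀ (r : ℕ) (L : Fin r → X.Modules),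
    (∀ i, PicF.IsInvertible (L i)) → ∀ n : Fin r → ℕ,
      (Curv2.tensorPows ((Scheme.Modules.pushforward f).obj M) r L n ≅
        (Scheme.Modules.pushforward f).obj
          (Curv2.tensorPows M r (fun i => (Scheme.Modules.pullback f).obj (L i)) n))
  | 0, _, _, _ => Iso.refl _
  | r + 1, L, hL, n =>
    EGA73.tensIso (tensorPowsPush M r (fun i => L i.castSucc) (fun i => hL _) (fun i => n i.castSucc))
        (Iso.refl _) ≪≫
      ValVan29.projIso f _ _ (EGA73.isInvertible_tensorPow (hL (Fin.last r)) _) ≪≫
      (Scheme.Modules.pushforward f).mapIso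
        (EGA73.tensIso (Iso.refl _) (Amp73.pullPowIso f (hL (Fin.last r)) (n (Fin.last r))))

variable (k : Type u) [Field k] [Z.Over (Spec (CommRingCat.of k))] [X.Over (Spec (CommRingCat.of k))]
  [IsProper (X ↘ Spec (CommRingCat.of k))]

/-- Twisted Euler characteristics of a direct image are those of the restricted twists. -/
theorem chi_push [IsClosedImmersion f]
    (hf : f ≫ (X ↘ Spec (CommRingCat.of k)) = Z ↘ Spec (CommRingCat.of k))
    {M : Z.Modules} (hM : Coh.IsCoh M) {r : ℕ} {L : Fin r → X.Modules}
    (hL : ∀ i, PicF.IsInvertible (L i)) :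
    chi k L ((Scheme.Modules.pushforward f).obj M) =
      fun n => (Curv2.euler k Z
        (Curv2.tensorPows M r (fun i => (Scheme.Modules.pullback f).obj (L i)) n) : ℚ) :=
  funext fun n => congrArg (fun z : ℤ => (z : ℚ))
    ((Crv77.euler_congr (tensorPowsPush f M r L hL n)).trans (Curves2.Ample.euler_push k f hf _
      (isCoh_tensorPows hM r _ (fun i => Amp73.isInvertible_pullback f (hL i)) n)))

end Groth.Agent.Snapper75

end
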