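import Groth.Agent.Snapper75.Coeff
import Groth.Agent.Amp73.Powers
import Mathlib.Algebra.Group.ForwardDiff
import Mathlib.Data.Nat.Choose.Sum

/-! Self-intersection numbers as leading coefficients. -/

set_option autoImplicit false
set_option backward.isDefEq.respectTransparency.types false
universe u

open CategoryTheory CategoryTheory.Limits AlgebraicGeometry Polynomial

noncomputable section

namespace Groth.Agent.Snapper75

/-- The iterated difference of a function of the total degree. -/
theorem alt_sum_fn (d : ℕ) (g : ℕ → ℚ) :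
    alt d (fun n => g (∑ i, n i)) = ∑ k ∈ Finset.range (d + 1), (-1 : ℚ) ^ (d - k) * d.choose k * g k := by
  classical
  show ∑ S : Finset (Fin d), (-1 : ℚ) ^ (Sᶜ).card * g (∑ i, ind S i) = _
  have h : ∀ S : Finset (Fin d), (-1 : ℚ) ^ (Sᶜ).card * g (∑ i, ind S i) =
      (fun m => (-1 : ℚ) ^ (d - m) * g m) S.card := fun S => by
    simp [ind, Finset.card_compl]
  rw [Finset.sum_congr rfl fun S _ => h S, ← Finset.powerset_univ,
    Finset.sum_powerset_apply_card (fun m => (-1 : ℚ) ^ (d - m) * g m)]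
  simp only [Finset.card_univ, Fintype.card_fin, nsmul_eq_mul]
  exact Finset.sum_congr rfl fun k _ => by ring

theorem sum_choose_pow (d j : ℕ) :
    ∑ k ∈ Finset.range (d + 1), (-1 : ℚ) ^ (d - k) * d.choose k * (k : ℚ) ^ j =
      (fwdDiff (1 : ℚ))^[d] (fun x : ℚ => x ^ j) 0 := by
  rw [fwdDiff_iter_eq_sum_shift]
  refine Finset.sum_congr rfl fun k _ => ?_
  simp [zsmul_eq_mul]

/-- The iterated difference of a polynomial in the total degree. -/
theorem alt_poly_sum {d : ℕ} {P : ℚ[X]} (hP : P.natDegree ≤ d) :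
    alt d (fun n => P.eval ((∑ i, n i : ℕ) : ℚ)) = (d.factorial : ℚ) * P.coeff d := by
  rw [alt_sum_fn d (fun m => P.eval (m : ℚ))]
  simp only [eval_eq_sum_range' (show P.natDegree < d + 1 by omega), Finset.mul_sum]
  rw [Finset.sum_comm, Finset.sum_eq_single d]
  · have h := sum_choose_pow d d
    rw [fwdDiff_iter_eq_factorial, Pi.natCast_apply] at h
    rw [← h, Finset.sum_mul]
    exact Finset.sum_congr rfl fun k _ => by ring
  · intro j hj hne
    have hlt : j < d := by
      have := Finset.mem_range.1 hj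
      omega
    have h := sum_choose_pow d j
    rw [fwdDiff_iter_pow_eq_zero_of_lt hlt, Pi.zero_apply] at h
    calc ∑ k ∈ Finset.range (d + 1), (-1 : ℚ) ^ (d - k) * d.choose k * (P.coeff j * (k : ℚ) ^ j)
        = P.coeff j * ∑ k ∈ Finset.range (d + 1), (-1 : ℚ) ^ (d - k) * d.choose k * (k : ℚ) ^ j := by
          rw [Finset.mul_sum]
          exact Finset.sum_congr rfl fun k _ => by ring
      _ = 0 := by rw [h, mul_zero]
  · intro h
    exact absurd (Finset.self_mem_range_succ d) h

variable {X : Scheme.{u}}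

/-- Repeated twists by one module. -/
theorem nonempty_tensorPows_const (F L : X.Modules) : ∀ (r : ℕ) (n : Fin r → ℕ),
    Nonempty (Curv2.tensorPows F r (fun _ => L) n ≅ CohB1.tensorMod F (CohB1.tensorPow L (∑ i, n i)))
  | 0, _ => ⟨(EGA73.tensUnitRight F).symm⟩
  | r + 1, n => by
    obtain ⟨e⟩ := nonempty_tensorPows_const F L r (fun i => n i.castSucc)
    rw [Fin.sum_univ_castSucc]
    exact ⟨EGA73.tensIso e (Iso.refl _) ≪≫ EGA73.tensAssoc' _ _ _ ≪≫
      EGA73.tensIso (Iso.refl _) (Amp73.powAdd L _ _)⟩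

variable (k : Type u) [Field k] [X.Over (Spec (CommRingCat.of k))]
  [IsProper (X ↘ (Spec (CommRingCat.of k)))]

/-- The self-intersection number is `d!` times the top coefficient of the Hilbert polynomial. -/
theorem coeff_const_eq {d : ℕ} {L : X.Modules} (hL : PicF.IsInvertible L) {F : X.Modules}
    (hF : Coh.IsCoh F) (hd : topologicalKrullDim (CohB1.support F) ≤ (d : WithBot ℕ∞))
    {H : ℚ[X]} (hH : ∀ m : ℕ, (Curv2.euler k X (CohB1.tensorMod F (CohB1.tensorPow L m)) : ℚ) = H.eval (m : ℚ))
    (hdeg : H.natDegree ≤ d) {P : MvPolynomial (Fin d) ℚ}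
    (hP : ∀ n : Fin d → ℕ, chi k (fun _ => L) F n = MvPolynomial.eval (fun i => (n i : ℚ)) P) :
    P.coeff (oneExp d) = (d.factorial : ℚ) * H.coeff d := by
  rw [coeff_eq_alt k (fun _ => hL) hF hd hP, ← alt_poly_sum hdeg]
  refine congrArg (alt d) (funext fun n => ?_)
  obtain ⟨e⟩ := nonempty_tensorPows_const F L d n
  exact (congrArg (fun z : ℤ => (z : ℚ)) (Crv77.euler_congr e)).trans (hH _)

end Groth.Agent.Snapper75

end
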