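import Groth.Agent.Snapper75.Coeff
import Groth.Agent.LimTop61.CartierDim
import Groth.Agent.Crv77.IdealSeq
import Groth.Prelude.Def_FGA

/-! Restricting intersection numbers to an effective Cartier divisor. -/

set_option autoImplicit false
set_option backward.isDefEq.respectTransparency.types false
universe u

open CategoryTheory CategoryTheory.Limits AlgebraicGeometry TopologicalSpace Opposite

noncomputable section

namespace Groth.Agent.Snapper75

variable {e : ℕ}

/-- Fixing the first variable. -/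
def setFirst (e c : ℕ) : ((Fin (e + 1) → ℕ) → ℚ) →ₗ[ℚ] ((Fin e → ℕ) → ℚ) where
  toFun f n := f (Fin.cons c n)
  map_add' _ _ := rfl
  map_smul' _ _ := rfl

theorem setFirst_monoFn (c : ℕ) (m : Fin (e + 1) → ℕ) :
    setFirst e c (monoFn m) = (c : ℚ) ^ m 0 • monoFn (Fin.tail m) := by
  funext n
  simp [setFirst, monoFn, Fin.prod_univ_succ, Fin.tail]

theorem eqOn_polySub {r d : ℕ} {M : Type*} [AddCommGroup M] [Module ℚ M]
    {S T : ((Fin r → ℕ) → ℚ) →ₗ[ℚ] M} (h : ∀ m : Fin r → ℕ, ∑ i, m i < d → S (monoFn m) = T (monoFn m))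
    {f : (Fin r → ℕ) → ℚ} (hf : f ∈ polySub r d) : S f = T f := by
  refine LinearMap.eqOn_span ?_ hf
  rintro _ ⟨m, hm, rfl⟩
  exact h m hm

theorem alt_succ {d : ℕ} {f : (Fin (e + 1) → ℕ) → ℚ} (hf : f ∈ polySub (e + 1) d) :
    alt (e + 1) f = alt e (setFirst e 1 f - setFirst e 0 f) := by
  refine eqOn_polySub (S := alt (e + 1))
    (T := (alt e).comp (setFirst e 1 - setFirst e 0)) (fun m _ => ?_) hf
  simp only [LinearMap.comp_apply, LinearMap.sub_apply, setFirst_monoFn, map_sub, map_smul, alt_monoFn,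
    smul_eq_mul, Fin.prod_univ_succ, Fin.tail, Nat.cast_one, Nat.cast_zero, one_pow]
  ring

theorem alt_setFirst {h : (Fin (e + 1) → ℕ) → ℚ} (hh : h ∈ polySub (e + 1) (e + 1)) :
    alt e (setFirst e 1 h) = alt e (setFirst e 0 h) := by
  refine eqOn_polySub (S := (alt e).comp (setFirst e 1)) (T := (alt e).comp (setFirst e 0))
    (fun m hm => ?_) hh
  simp only [LinearMap.comp_apply, setFirst_monoFn, map_smul, alt_monoFn, smul_eq_mul, Nat.cast_one,
    Nat.cast_zero, one_pow, one_mul]
  rcases eq_or_ne (m 0) 0 with h0 | h0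
  · simp [h0]
  · obtain ⟨i, hi⟩ : ∃ i : Fin e, Fin.tail m i = 0 := by
      by_contra hcon
      push Not at hcon
      rw [Fin.sum_univ_succ] at hm
      have h1 : ∑ _i : Fin e, 1 ≤ ∑ i : Fin e, m i.succ :=
        Finset.sum_le_sum fun i _ => Nat.pos_of_ne_zero (hcon i)
      simp at h1
      omega
    rw [Finset.prod_eq_zero (Finset.mem_univ i) (by simp [hi]), mul_zero]

variable {X : Scheme.{u}}

/-- A vanishing first exponent can be dropped. -/
theorem nonempty_tensorPows_cons_zero (F : X.Modules) : ∀ (r : ℕ) (L : Fin (r + 1) → X.Modules)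
    (n : Fin r → ℕ), Nonempty (Curv2.tensorPows F (r + 1) L (Fin.cons 0 n) ≅
      Curv2.tensorPows F r (fun j => L j.succ) n)
  | 0, _, _ => ⟨EGA73.tensUnitRight F⟩
  | r + 1, L, n => by
    obtain ⟨e⟩ := nonempty_tensorPows_cons_zero F r (fun i => L i.castSucc) (fun i => n i.castSucc)
    have h1 : (Fin.cons 0 fun i : Fin r => n i.castSucc) =
        fun i : Fin (r + 1) => (Fin.cons 0 n : Fin (r + 2) → ℕ) i.castSucc := by
      funext i
      induction i using Fin.cases with
      | zero => simp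
      | succ i => simp [← Fin.succ_castSucc]
    have h2 : (Fin.cons 0 n : Fin (r + 2) → ℕ) (Fin.last (r + 1)) = n (Fin.last r) := by
      rw [← Fin.succ_last, Fin.cons_succ]
    exact ⟨eqToIso (tensorPows_succ_eq F L _ h1 h2.symm).symm ≪≫ EGA73.tensIso e (Iso.refl _) ≪≫
      eqToIso (by rw [← Fin.succ_last]; simp only [← Fin.succ_castSucc]; rfl)⟩

theorem dim_support_lt_of_effCartier {I : X.IdealSheafData} (hI : FGA.IsEffCartier I) {e : ℕ}
    (hX : topologicalKrullDim X ≤ ((e + 1 : ℕ) : WithBot ℕ∞)) :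
    topologicalKrullDim (I.support : Set X) ≤ (e : WithBot ℕ∞) := by
  refine TopDim50.dim_le_of_forall_series fun l => ?_
  have h := (LimTop61.CartierDim.series_succ_le (j := (Subtype.val : ↥(I.support : Set X) → X))
    I.support.isClosed.isClosedEmbedding_subtypeVal (fun η hη hmem => by
      obtain ⟨z, rfl⟩ := hmem
      exact LimTop61.CartierDim.notMem_support hI z.1 hη z.2) l).trans hX
  have := Nat.cast_le.1 h
  exact Nat.cast_le.2 (by omega)

variable (k : Type u) [Field k] [X.Over (Spec (CommRingCat.of k))]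
  [IsProper (X ↘ (Spec (CommRingCat.of k)))]

set_option maxHeartbeats 400000 in
theorem coeff_divisor {e : ℕ} (hX : topologicalKrullDim X ≤ ((e + 1 : ℕ) : WithBot ℕ∞))
    {D : X.IdealSheafData} (hD : FGA.IsEffCartier D) {L : Fin (e + 1) → X.Modules}
    (hL : ∀ j, PicF.IsInvertible (L j)) (hLD : ClSub.IsInverseOf (L 0) (ClSub.idealMod D)) :
    alt (e + 1) (chi k L (Coh.structureModule X)) =
      alt e (chi k (fun j : Fin e => L j.succ) (ClSub.quotMod D)) := by
  classical
  haveI := Crv77.isNoetherian_of_proper k X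
  have hO : Coh.IsCoh (Coh.structureModule X) := Crv77.isCoh_structureModule
  have hI : Coh.IsCoh (ClSub.idealMod D) := Crv77.isCoh_idealMod D
  have hQ : Coh.IsCoh (ClSub.quotMod D) := Crv77.isCoh_quotMod D
  have key : ∀ (S : ShortComplex X.Modules) (A B C : X.Modules), S.ShortExact → S.X₁ = A → S.X₂ = B →
      S.X₃ = C → Coh.IsCoh A → Coh.IsCoh B → Coh.IsCoh C → chi k L B = chi k L A + chi k L C := by
    intro S A B C hS hA hB hC ha hb hc
    subst hA hB hC
    exact chi_add k hL hS ha hb hc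
  have hadd : chi k L (Coh.structureModule X) = chi k L (ClSub.idealMod D) + chi k L (ClSub.quotMod D) :=
    key (Crv77.idealSeq D) _ _ _ (Crv77.idealSeq_shortExact D) rfl rfl rfl hI hO hQ
  obtain ⟨e'⟩ := hLD
  have hshift : ∀ n, chi k L (Coh.structureModule X) n =
      chi k L (ClSub.idealMod D) (n + Pi.single 0 1) := fun n => by
    rw [← chi_shift k hL (ClSub.idealMod D) 0 n]
    exact (congrFun (chi_congr k L (EGA73.tensComm _ _ ≪≫ e')) n).symm
  have hdiff : setFirst e 1 (chi k L (Coh.structureModule X)) -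
      setFirst e 0 (chi k L (Coh.structureModule X)) = setFirst e 1 (chi k L (ClSub.quotMod D)) := by
    funext n
    have hcons : (Fin.cons 0 n : Fin (e + 1) → ℕ) + Pi.single 0 1 = Fin.cons 1 n := by
      funext j
      induction j using Fin.cases with
      | zero => simp
      | succ j => simp
    show chi k L _ (Fin.cons 1 n) - chi k L _ (Fin.cons 0 n) = chi k L _ (Fin.cons 1 n)
    rw [hshift (Fin.cons 0 n), hcons, hadd, Pi.add_apply]
    ring
  have hXd : topologicalKrullDim (CohB1.support (Coh.structureModule X)) < ((e + 2 : ℕ) : WithBot ℕ∞) :=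
    lt_of_le_of_lt (le_trans (topologicalKrullDim_subspace_le X _) hX)
      (by exact_mod_cast Nat.lt_succ_self (e + 1))
  have hQd : topologicalKrullDim (CohB1.support (ClSub.quotMod D)) < ((e + 1 : ℕ) : WithBot ℕ∞) :=
    lt_of_le_of_lt ((LC17.dim_mono (support_quotMod_subset D)).trans (dim_support_lt_of_effCartier hD hX))
      (by exact_mod_cast Nat.lt_succ_self e)
  rw [alt_succ (chi_mem_polySub k hL _ _ hO hXd), hdiff, alt_setFirst (chi_mem_polySub k hL _ _ hQ hQd)]
  refine congrArg (alt e) (funext fun n => ?_)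
  obtain ⟨i⟩ := nonempty_tensorPows_cons_zero (ClSub.quotMod D) e L n
  exact congrArg (fun z : ℤ => (z : ℚ)) (Crv77.euler_congr i)

end Groth.Agent.Snapper75

end
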