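import Mathlib.NumberTheory.Bernoulli
import Mathlib.Algebra.MvPolynomial.CommRing
import Mathlib.LinearAlgebra.Span.Basic
import Mathlib.Algebra.BigOperators.Fin
import Mathlib.Algebra.BigOperators.Ring.Finset

/-! Numerical polynomial functions on `ℕ^r`. -/

set_option autoImplicit false

open Finset

namespace Groth.Agent.Snapper75

noncomputable section

variable {r : ℕ}

/-- The monomial function with exponents `m`. -/
def monoFn (m : Fin r → ℕ) : (Fin r → ℕ) → ℚ := fun n => ∏ i, (n i : ℚ) ^ m i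

/-- Polynomial functions on `ℕ^r` all whose monomials have degree `< d`. -/
def polySub (r d : ℕ) : Submodule ℚ ((Fin r → ℕ) → ℚ) :=
  Submodule.span ℚ (monoFn '' {m | ∑ i, m i < d})

theorem monoFn_mem {m : Fin r → ℕ} {d : ℕ} (h : ∑ i, m i < d) : monoFn m ∈ polySub r d :=
  Submodule.subset_span ⟨m, h, rfl⟩

theorem polySub_mono {d e : ℕ} (h : d ≤ e) : polySub r d ≤ polySub r e :=
  Submodule.span_mono (Set.image_mono fun _ hm => lt_of_lt_of_le hm h)

theorem polySub_zero : polySub r 0 = ⊥ := by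
  simp [polySub]

theorem const_mem {d : ℕ} (hd : 0 < d) (c : ℚ) : (fun _ => c) ∈ polySub r d := by
  have : (fun _ : Fin r → ℕ => c) = c • monoFn (fun _ => 0) := by
    funext n; simp [monoFn]
  rw [this]
  exact Submodule.smul_mem _ c (monoFn_mem (by simpa using hd))

theorem eval_monomial_eq (m : Fin r →₀ ℕ) (c : ℚ) (n : Fin r → ℕ) :
    MvPolynomial.eval (fun i => (n i : ℚ)) (MvPolynomial.monomial m c) = c * monoFn (⇑m) n := by
  rw [MvPolynomial.eval_monomial, Finsupp.prod_fintype _ _ (fun i => pow_zero _)]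
  rfl

theorem sum_eq_finsupp_sum (m : Fin r →₀ ℕ) : (m.sum fun _ e => e) = ∑ i, m i :=
  Finsupp.sum_fintype _ _ fun _ => rfl

/-- Description by polynomials. -/
theorem mem_polySub_iff {d : ℕ} {f : (Fin r → ℕ) → ℚ} :
    f ∈ polySub r d ↔ ∃ P : MvPolynomial (Fin r) ℚ, (∀ m ∈ P.support, (m.sum fun _ e => e) < d) ∧
      ∀ n, f n = MvPolynomial.eval (fun i => (n i : ℚ)) P := by
  classical
  constructor
  · intro hf
    induction hf using Submodule.span_induction with
    | mem g hg =>
      obtain ⟨m, hm, rfl⟩ := hg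
      refine ⟨MvPolynomial.monomial (Finsupp.equivFunOnFinite.symm m) 1, fun m' hm' => ?_, fun n => ?_⟩
      · obtain rfl := Finset.mem_singleton.1 (MvPolynomial.support_monomial_subset hm')
        rw [sum_eq_finsupp_sum]
        exact hm
      · rw [eval_monomial_eq, one_mul]; rfl
    | zero => exact ⟨0, by simp, by simp⟩
    | add g g' _ _ h h' =>
      obtain ⟨P, hP, hPe⟩ := h
      obtain ⟨Q, hQ, hQe⟩ := h'
      refine ⟨P + Q, fun m hm => ?_, fun n => by simp [hPe n, hQe n]⟩
      rcases Finset.mem_union.1 (MvPolynomial.support_add hm) with h | h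
      exacts [hP m h, hQ m h]
    | smul c g _ h =>
      obtain ⟨P, hP, hPe⟩ := h
      exact ⟨c • P, fun m hm => hP m (MvPolynomial.support_smul hm), fun n => by simp [hPe n]⟩
  · rintro ⟨P, hP, hPe⟩
    have : f = ∑ m ∈ P.support, P.coeff m • monoFn (⇑m) := by
      funext n
      simp [hPe n, monoFn, MvPolynomial.eval_eq']
    rw [this]
    refine Submodule.sum_mem _ fun m hm => Submodule.smul_mem _ _ (monoFn_mem ?_)
    rw [← sum_eq_finsupp_sum]
    exact hP m hm

/-- Summation in the last variable. -/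
def sumLast (r : ℕ) : ((Fin (r + 1) → ℕ) → ℚ) →ₗ[ℚ] ((Fin (r + 1) → ℕ) → ℚ) where
  toFun g n := ∑ j ∈ range (n (Fin.last r)), g (Fin.snoc (Fin.init n) j)
  map_add' g g' := by funext n; simp [Finset.sum_add_distrib]
  map_smul' c g := by funext n; simp [Finset.mul_sum]

/-- Setting the last variable to zero. -/
def resLast (r : ℕ) : ((Fin (r + 1) → ℕ) → ℚ) →ₗ[ℚ] ((Fin r → ℕ) → ℚ) where
  toFun g n := g (Fin.snoc n 0)
  map_add' _ _ := rfl
  map_smul' _ _ := rfl

/-- Ignoring the last variable. -/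
def extLast (r : ℕ) : ((Fin r → ℕ) → ℚ) →ₗ[ℚ] ((Fin (r + 1) → ℕ) → ℚ) where
  toFun g n := g (Fin.init n)
  map_add' _ _ := rfl
  map_smul' _ _ := rfl

theorem map_polySub_le {r' : ℕ} (T : ((Fin r → ℕ) → ℚ) →ₗ[ℚ] ((Fin r' → ℕ) → ℚ)) {d e : ℕ}
    (h : ∀ m : Fin r → ℕ, ∑ i, m i < d → T (monoFn m) ∈ polySub r' e) {f : (Fin r → ℕ) → ℚ}
    (hf : f ∈ polySub r d) : T f ∈ polySub r' e := by
  have hle : (polySub r d).map T ≤ polySub r' e := by
    rw [polySub, Submodule.map_span_le]
    rintro _ ⟨m, hm, rfl⟩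
    exact h m hm
  exact hle (Submodule.mem_map_of_mem hf)

theorem sumLast_mem {d : ℕ} {g : (Fin (r + 1) → ℕ) → ℚ} (hg : g ∈ polySub (r + 1) d) :
    sumLast r g ∈ polySub (r + 1) (d + 1) := by
  refine map_polySub_le _ (fun m hm => ?_) hg
  set p := m (Fin.last r)
  have : sumLast r (monoFn m) = ∑ i ∈ range (p + 1),
      (bernoulli i * ((p + 1).choose i) / (p + 1) : ℚ) • monoFn (Fin.snoc (Fin.init m) (p + 1 - i)) := by
    funext n
    simp only [Finset.sum_apply, Pi.smul_apply, smul_eq_mul, sumLast, LinearMap.coe_mk, AddHom.coe_mk,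
      monoFn, Fin.prod_univ_castSucc, Fin.snoc_castSucc, Fin.snoc_last, Fin.init]
    rw [← Finset.mul_sum, show m (Fin.last r) = p from rfl, sum_range_pow, Finset.mul_sum]
    refine Finset.sum_congr rfl fun i _ => ?_
    ring
  rw [this]
  refine Submodule.sum_mem _ fun i _ => Submodule.smul_mem _ _ (monoFn_mem ?_)
  rw [Fin.sum_univ_castSucc] at hm
  simp only [Fin.sum_univ_castSucc, Fin.snoc_castSucc, Fin.snoc_last, Fin.init]
  omega

theorem resLast_mem {d : ℕ} {g : (Fin (r + 1) → ℕ) → ℚ} (hg : g ∈ polySub (r + 1) d) :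
    resLast r g ∈ polySub r d := by
  refine map_polySub_le _ (fun m hm => ?_) hg
  have : resLast r (monoFn m) = ((0 : ℚ) ^ m (Fin.last r)) • monoFn (Fin.init m) := by
    funext n
    simp [resLast, monoFn, Fin.prod_univ_castSucc, Fin.init, mul_comm]
  rw [this]
  refine Submodule.smul_mem _ _ (monoFn_mem ?_)
  rw [Fin.sum_univ_castSucc] at hm
  simp only [Fin.init]
  omega

theorem extLast_mem {d : ℕ} {g : (Fin r → ℕ) → ℚ} (hg : g ∈ polySub r d) :
    extLast r g ∈ polySub (r + 1) d := by
  refine map_polySub_le _ (fun m hm => ?_) hg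
  have : extLast r (monoFn m) = monoFn (Fin.snoc m 0) := by
    funext n
    simp [extLast, monoFn, Fin.prod_univ_castSucc, Fin.init]
  rw [this]
  refine monoFn_mem ?_
  simpa [Fin.sum_univ_castSucc] using hm

theorem init_add_single_castSucc (n : Fin r → ℕ) (i : Fin r) :
    (Fin.snoc (n + Pi.single i 1) 0 : Fin (r + 1) → ℕ) = Fin.snoc n 0 + Pi.single i.castSucc 1 := by
  funext j
  induction j using Fin.lastCases with
  | last => simp
  | cast j =>
    by_cases h : j = i
    · subst h; simp
    · simp [Pi.single_eq_of_ne h, Pi.single_eq_of_ne (fun e => h (Fin.castSucc_injective r e))]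

/-- Functions with polynomial differences are polynomial. -/
theorem mem_polySub_of_diff : ∀ {r : ℕ} {d : ℕ} {f : (Fin r → ℕ) → ℚ},
    (∀ i : Fin r, (fun n => f (n + Pi.single i 1) - f n) ∈ polySub r d) → f ∈ polySub r (d + 1)
  | 0, d, f, _ => by
    have : f = fun _ => f Fin.elim0 := funext fun n => congrArg f (Subsingleton.elim _ _)
    rw [this]
    exact const_mem (Nat.succ_pos d) _
  | r + 1, d, f, h => by
    have hres : resLast r f ∈ polySub r (d + 1) := mem_polySub_of_diff fun i => by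
      have := resLast_mem (h i.castSucc)
      convert this using 1
      funext n
      simp [resLast, init_add_single_castSucc]
    have key : ∀ (n' : Fin r → ℕ) (q : ℕ), f (Fin.snoc n' q) =
        f (Fin.snoc n' 0) + ∑ j ∈ range q,
          (f (Fin.snoc n' j + Pi.single (Fin.last r) 1) - f (Fin.snoc n' j)) := by
      intro n' q
      have hstep : ∀ j, (Fin.snoc n' j + Pi.single (Fin.last r) 1 : Fin (r + 1) → ℕ) = Fin.snoc n' (j + 1) := by
        intro j
        funext l
        induction l using Fin.lastCases with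
        | last => simp
        | cast l => simp
      simp only [hstep]
      rw [Finset.sum_range_sub fun j => f (Fin.snoc n' j)]
      ring
    have : f = extLast r (resLast r f) +
        sumLast r (fun n => f (n + Pi.single (Fin.last r) 1) - f n) := by
      funext n
      have := key (Fin.init n) (n (Fin.last r))
      rw [Fin.snoc_init_self] at this
      exact this
    rw [this]
    exact Submodule.add_mem _ (extLast_mem hres) (sumLast_mem (h (Fin.last r)))

/-- The indicator vector of a set of variables. -/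
def ind (S : Finset (Fin r)) : Fin r → ℕ := fun i => if i ∈ S then 1 else 0

/-- The iterated difference at the origin. -/
def alt (r : ℕ) : ((Fin r → ℕ) → ℚ) →ₗ[ℚ] ℚ where
  toFun f := ∑ S : Finset (Fin r), (-1) ^ (Sᶜ).card * f (ind S)
  map_add' f g := by simp [mul_add, Finset.sum_add_distrib]
  map_smul' c f := by simp [Finset.mul_sum, mul_left_comm]

theorem alt_monoFn (m : Fin r → ℕ) : alt r (monoFn m) = ∏ i, (1 - (0 : ℚ) ^ m i) := by
  classical
  have h : ∏ i, (1 - (0 : ℚ) ^ m i) = ∏ i, ((1 : ℚ) + -(0 : ℚ) ^ m i) :=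
    Finset.prod_congr rfl fun i _ => sub_eq_add_neg _ _
  rw [h, Finset.prod_add, Finset.powerset_univ]
  show ∑ S : Finset (Fin r), (-1 : ℚ) ^ (Sᶜ).card * monoFn m (ind S) = _
  refine Finset.sum_congr rfl fun S _ => ?_
  simp only [Finset.prod_const_one, one_mul, monoFn, ind, Finset.compl_eq_univ_sdiff]
  rw [Finset.prod_neg]
  congr 1
  rw [← Finset.prod_subset (Finset.sdiff_subset (s := Finset.univ) (t := S))
    (f := fun i => ((if i ∈ S then (1 : ℕ) else 0 : ℕ) : ℚ) ^ m i)]
  · exact Finset.prod_congr rfl fun i hi => by simp [(Finset.mem_sdiff.1 hi).2]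
  · intro i _ hi
    simp at hi
    simp [hi]

theorem eq_one_of_sum_le {m : Fin r → ℕ} (h : ∑ i, m i ≤ r) (h1 : ∀ i, 1 ≤ m i) (i : Fin r) : m i = 1 := by
  by_contra hne
  have hlt : ∑ _j : Fin r, 1 < ∑ j, m j :=
    Finset.sum_lt_sum (fun j _ => h1 j) ⟨i, Finset.mem_univ i, lt_of_le_of_ne (h1 i) (Ne.symm hne)⟩
  simp at hlt
  omega

/-- For degree at most the number of variables the iterated difference is the multilinear coefficient. -/
theorem alt_eq_coeff {f : (Fin r → ℕ) → ℚ} {P : MvPolynomial (Fin r) ℚ}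
    (hdeg : ∀ m ∈ P.support, (m.sum fun _ e => e) ≤ r)
    (hf : ∀ n, f n = MvPolynomial.eval (fun i => (n i : ℚ)) P) :
    alt r f = P.coeff (Finsupp.equivFunOnFinite.symm fun _ : Fin r => 1) := by
  classical
  have hsum : f = ∑ m ∈ P.support, P.coeff m • monoFn (⇑m) := by
    funext n
    simp [hf n, monoFn, MvPolynomial.eval_eq']
  rw [hsum, map_sum]
  set one := (Finsupp.equivFunOnFinite.symm fun _ : Fin r => 1)
  rw [Finset.sum_eq_single one]
  · simp [alt_monoFn, one]
  · intro m hm hne
    rw [map_smul, alt_monoFn, smul_eq_mul]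
    obtain ⟨i, hi⟩ : ∃ i, m i = 0 := by
      by_contra hcon
      push Not at hcon
      refine hne (Finsupp.ext fun i => ?_)
      have := eq_one_of_sum_le ((sum_eq_finsupp_sum m).symm.trans_le (hdeg m hm))
        (fun j => Nat.pos_of_ne_zero (hcon j)) i
      simp [one, this]
    rw [Finset.prod_eq_zero (Finset.mem_univ i) (by simp [hi]), mul_zero]
  · intro h
    simp [MvPolynomial.notMem_support_iff.1 h]

theorem alt_eq_zero {f : (Fin r → ℕ) → ℚ} (hf : f ∈ polySub r r) : alt r f = 0 := by
  obtain ⟨P, hP, hPe⟩ := mem_polySub_iff.1 hf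
  rw [alt_eq_coeff (fun m hm => (hP m hm).le) hPe]
  by_contra hne
  have := hP _ (MvPolynomial.mem_support_iff.2 hne)
  rw [sum_eq_finsupp_sum] at this
  simp at this

end

end Groth.Agent.Snapper75
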